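import Mathlib

/-!
# Curvilinear finite local algebras: `B ≅ k[X]/(X^n)`
-/

set_option autoImplicit false

open Polynomial

universe u

namespace Curvilinear

theorem exists_algEquiv (k B : Type u) [Field k] [IsAlgClosed k]
    [CommRing B] [IsLocalRing B] [Algebra k B] [Module.Finite k B]
    (hm : (IsLocalRing.maximalIdeal B).IsPrincipal) :
    Nonempty (B ≃ₐ[k] (Polynomial k ⧸ Ideal.span {(X : Polynomial k) ^ Module.finrank k B})) := by
  haveI : IsArtinianRing B := IsArtinianRing.of_finite k B
  obtain ⟨b, hb⟩ := hm.principal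
  have hnil : IsNilpotent (IsLocalRing.maximalIdeal B) := by
    have := IsArtinianRing.isNilpotent_jacobson_bot (R := B)
    rwa [IsLocalRing.jacobson_eq_maximalIdeal ⊥ bot_ne_top] at this
  have hbn : ∃ N : ℕ, b ^ N = 0 := by
    obtain ⟨N, hN⟩ := hnil
    refine ⟨N, ?_⟩
    have : b ^ N ∈ IsLocalRing.maximalIdeal B ^ N :=
      Ideal.pow_mem_pow (hb ▸ Submodule.mem_span_singleton_self b) N
    rwa [hN] at this
  haveI : Module.Finite k (IsLocalRing.ResidueField B) :=
    Module.Finite.of_surjective
      (IsScalarTower.toAlgHom k B (IsLocalRing.ResidueField B)).toLinearMap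
      IsLocalRing.residue_surjective
  have hres : ∀ x : B, ∃ (c : k) (y : B), x = algebraMap k B c + b * y := by
    intro x
    obtain ⟨c, hc⟩ := IsAlgClosed.algebraMap_bijective_of_isIntegral
      (k := k) (K := IsLocalRing.ResidueField B) |>.2 (IsLocalRing.residue B x)
    have : x - algebraMap k B c ∈ IsLocalRing.maximalIdeal B := by
      rw [← IsLocalRing.residue_eq_zero_iff, map_sub, ← hc, sub_eq_zero,
        IsScalarTower.algebraMap_apply k B (IsLocalRing.ResidueField B)]
      rfl
    rw [hb, Ideal.submodule_span_eq, Ideal.mem_span_singleton'] at this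
    obtain ⟨y, hy⟩ := this
    exact ⟨c, y, by linear_combination -hy⟩
  let φ : k[X] →ₐ[k] B := aeval b
  have hsurj : Function.Surjective φ := by
    obtain ⟨N, hN⟩ := hbn
    have key : ∀ (n : ℕ) (x : B), ∃ (p : k[X]) (y : B), x = φ p + b ^ n * y := by
      intro n
      induction n with
      | zero => exact fun x => ⟨0, x, by simp⟩
      | succ n ih =>
        intro x
        obtain ⟨p, y, rfl⟩ := ih x
        obtain ⟨c, z, rfl⟩ := hres y
        refine ⟨p + C c * X ^ n, z, ?_⟩
        simp only [φ, map_add, map_mul, aeval_C, map_pow, aeval_X]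
        ring
    intro x
    obtain ⟨p, y, hx⟩ := key N x
    exact ⟨p, by rw [hx, hN, zero_mul, add_zero]⟩
  obtain ⟨m, hm'⟩ : ∃ m : ℕ, RingHom.ker φ = Ideal.span {(X : k[X]) ^ m} := by
    obtain ⟨N, hN⟩ := hbn
    obtain ⟨p, hp⟩ := (IsPrincipalIdealRing.principal (RingHom.ker φ)).principal
    rw [Ideal.submodule_span_eq] at hp
    have : (X : k[X]) ^ N ∈ RingHom.ker φ := by
      rw [RingHom.mem_ker, map_pow, aeval_X, hN]
    rw [hp, Ideal.mem_span_singleton] at this
    obtain ⟨i, -, hi⟩ := (dvd_prime_pow prime_X N).1 this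
    exact ⟨i, by rw [hp]; exact Ideal.span_singleton_eq_span_singleton.2 hi⟩
  let e : (k[X] ⧸ Ideal.span {(X : k[X]) ^ m}) ≃ₐ[k] B :=
    (Ideal.quotientEquivAlgOfEq k hm'.symm).trans (Ideal.quotientKerAlgEquivOfSurjective hsurj)
  have hfin : Module.finrank k B = m := by
    rw [← e.toLinearEquiv.finrank_eq]
    exact (finrank_quotient_span_eq_natDegree (f := (X : k[X]) ^ m)).trans (by simp)
  exact ⟨e.symm.trans (Ideal.quotientEquivAlgOfEq k (by rw [hfin]))⟩

/-- in a local ring, a principal ideal spanned by a set is generated by one of its elements -/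
theorem exists_generator_mem {R : Type*} [CommRing R] [IsLocalRing R] {S : Set R}
    (hS : S.Nonempty) (h : (Ideal.span S).IsPrincipal) :
    ∃ s ∈ S, Ideal.span S = Ideal.span {s} := by
  classical
  obtain ⟨g, hg⟩ := h.principal
  rw [Ideal.submodule_span_eq] at hg
  have hmem : ∀ s ∈ S, ∃ c, c * g = s := fun s hs =>
    Ideal.mem_span_singleton'.1 (hg ▸ Ideal.subset_span hs)
  choose! c hc using hmem
  by_cases hu : ∃ s ∈ S, IsUnit (c s)
  · obtain ⟨s, hs, hcs⟩ := hu
    refine ⟨s, hs, ?_⟩
    rw [hg, ← hc s hs, Ideal.span_singleton_mul_left_unit hcs]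
  · push Not at hu
    have : g ∈ IsLocalRing.maximalIdeal R * Ideal.span {g} := by
      have hle : Ideal.span S ≤ IsLocalRing.maximalIdeal R * Ideal.span {g} := by
        rw [Ideal.span_le]
        intro s hs
        rw [← hc s hs]
        exact Ideal.mul_mem_mul (hu s hs) (Ideal.mem_span_singleton_self g)
      exact hle (hg ▸ Ideal.mem_span_singleton_self g)
    obtain ⟨z, hz, hzg⟩ := Ideal.mem_mul_span_singleton.1 this
    have hg0 : g = 0 := by
      have h1 : (1 - z) * g = 0 := by rw [sub_mul, one_mul, hzg, sub_self]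
      exact ((IsLocalRing.isUnit_one_sub_self_of_mem_nonunits z hz).mul_right_eq_zero).1 h1
    obtain ⟨s, hs⟩ := hS
    refine ⟨s, hs, ?_⟩
    rw [hg, hg0, ← hc s hs, hg0, mul_zero]

theorem of_flat_subalgebra (k : Type u) [Field k] [IsAlgClosed k] (Q : Type u) [CommRing Q]
    [IsLocalRing Q] [IsPrincipalIdealRing Q] [Algebra k Q] [Module.Finite k Q]
    (A : Subalgebra k Q) [Module.Flat A Q] :
    ∃ m : ℕ, Nonempty (A ≃ₐ[k] (Polynomial k ⧸ Ideal.span {(X : Polynomial k) ^ m})) := by
  haveI : Module.Finite k A := FiniteDimensional.finiteDimensional_subalgebra A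
  have hunit : ∀ a : A, IsUnit (a : Q) → IsUnit a := by
    intro a ha
    have hinj : Function.Injective (LinearMap.mulLeft k a) := by
      intro x y hxy
      have h' : (a : Q) * x = a * y := congrArg Subtype.val hxy
      exact Subtype.ext (ha.mul_left_cancel h')
    obtain ⟨b, hb⟩ := (LinearMap.injective_iff_surjective.1 hinj) 1
    exact IsUnit.of_mul_eq_one b hb
  haveI : IsLocalHom (algebraMap A Q) := ⟨hunit⟩
  haveI : IsLocalRing A := by
    apply IsLocalRing.of_nonunits_add
    intro a b ha hb hab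
    exact IsLocalRing.nonunits_add (R := Q) (fun h => ha (hunit a h)) (fun h => hb (hunit b h))
      (hab.map (algebraMap A Q))
  haveI : Module.Finite A Q := Module.Finite.of_restrictScalars_finite k A Q
  haveI : Module.FaithfullyFlat A Q := Module.FaithfullyFlat.of_flat_of_isLocalHom
  refine ⟨_, exists_algEquiv k A ?_⟩
  set S : Set A := (IsLocalRing.maximalIdeal A : Set A)
  have himg : Ideal.map (algebraMap A Q) (IsLocalRing.maximalIdeal A) =
      Ideal.span (algebraMap A Q '' S) := rfl
  obtain ⟨q, ⟨a, ha, rfl⟩, hq⟩ := exists_generator_mem (S := algebraMap A Q '' S)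
    (Set.Nonempty.image _ ⟨0, zero_mem _⟩) (IsPrincipalIdealRing.principal _)
  refine ⟨a, ?_⟩
  rw [Ideal.submodule_span_eq,
    ← Ideal.comap_map_eq_self_of_faithfullyFlat (B := Q) (IsLocalRing.maximalIdeal A),
    ← Ideal.comap_map_eq_self_of_faithfullyFlat (B := Q) (Ideal.span {a}), himg, hq,
    Ideal.map_span, Set.image_singleton]

end Curvilinear
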